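import Cfsg.Prelude.Def_Sz

set_option autoImplicit false

/-!
The matrix Suzuki groups `Cfsg.Lie.Sz F e`: the elements `szU a b`, `szH x`, `szW`, the fact that the
defining set is a subgroup, and the decomposition `Sz = B ∪ U w B`.

Throughout, `θ : F →+* F` satisfies `θ x = x ^ e` and `θ (θ x) = x ^ 2`, and `F` has characteristic 2.
-/

namespace CfsgLib.Suzuki

open Matrix Cfsg.Lie
open scoped MatrixGroups

variable {F : Type*} [Field F]

/-! ### Matrices -/

/-- The antidiagonal matrix of the form. -/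
def szJ (F : Type*) [Field F] : Matrix (Fin 4) (Fin 4) F := !![0, 0, 0, 1; 0, 0, 1, 0; 0, 1, 0, 0; 1, 0, 0, 0]

theorem szJ_mul_szJ : szJ F * szJ F = 1 := by
  ext i j
  fin_cases i <;> fin_cases j <;> simp [szJ, Matrix.mul_apply, Fin.sum_univ_four]

theorem altForm4_eq (u v : Fin 4 → F) : altForm4 u v = u ⬝ᵥ (szJ F *ᵥ v) := by
  simp [altForm4, szJ, dotProduct, Matrix.mulVec, Fin.sum_univ_four]

theorem mem_sp4_iff (g : GL (Fin 4) F) :
    g ∈ Sp4 F ↔ (g : Matrix (Fin 4) (Fin 4) F)ᵀ * szJ F * (g : Matrix (Fin 4) (Fin 4) F) = szJ F := by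
  constructor
  · intro h
    ext i j
    have := h (Pi.single i 1) (Pi.single j 1)
    simp only [Units.coeHom_apply, altForm4] at this
    simp only [Matrix.mulVec_single_one, Matrix.col_apply] at this
    fin_cases i <;> fin_cases j <;>
      simp [szJ, Matrix.mul_apply, Fin.sum_univ_four, Pi.single_apply] at this ⊢ <;> linear_combination this
  · intro h u v
    simp only [Units.coeHom_apply, altForm4_eq]
    rw [mulVec_mulVec, dotProduct_mulVec, ← vecMul_transpose, vecMul_vecMul, ← Matrix.mul_assoc, h,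
      dotProduct_mulVec]

theorem sp4_cols {g : GL (Fin 4) F} (h : g ∈ Sp4 F) (i j : Fin 4) :
    (g : Matrix (Fin 4) (Fin 4) F) 0 i * (g : Matrix (Fin 4) (Fin 4) F) 3 j +
      (g : Matrix (Fin 4) (Fin 4) F) 1 i * (g : Matrix (Fin 4) (Fin 4) F) 2 j +
      (g : Matrix (Fin 4) (Fin 4) F) 2 i * (g : Matrix (Fin 4) (Fin 4) F) 1 j +
      (g : Matrix (Fin 4) (Fin 4) F) 3 i * (g : Matrix (Fin 4) (Fin 4) F) 0 j = szJ F i j := by
  have := congrFun (congrFun ((mem_sp4_iff g).mp h) i) j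
  rw [← this, Matrix.mul_assoc]
  simp [szJ, Matrix.mul_apply, Matrix.vecMul, dotProduct, Fin.sum_univ_four]

theorem sp4_rows {g : GL (Fin 4) F} (h : g ∈ Sp4 F) (i j : Fin 4) :
    (g : Matrix (Fin 4) (Fin 4) F) i 0 * (g : Matrix (Fin 4) (Fin 4) F) j 3 +
      (g : Matrix (Fin 4) (Fin 4) F) i 1 * (g : Matrix (Fin 4) (Fin 4) F) j 2 +
      (g : Matrix (Fin 4) (Fin 4) F) i 2 * (g : Matrix (Fin 4) (Fin 4) F) j 1 +
      (g : Matrix (Fin 4) (Fin 4) F) i 3 * (g : Matrix (Fin 4) (Fin 4) F) j 0 = szJ F i j := by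
  have h1 := (mem_sp4_iff g).mp h
  have hinv : (szJ F * (g : Matrix (Fin 4) (Fin 4) F)ᵀ * szJ F) * (g : Matrix (Fin 4) (Fin 4) F) = 1 := by
    rw [Matrix.mul_assoc, Matrix.mul_assoc, ← Matrix.mul_assoc _ (szJ F), h1, szJ_mul_szJ]
  have hr := mul_eq_one_comm.mp hinv
  have h2 : (g : Matrix (Fin 4) (Fin 4) F) * szJ F * (g : Matrix (Fin 4) (Fin 4) F)ᵀ = szJ F := by
    calc (g : Matrix (Fin 4) (Fin 4) F) * szJ F * (g : Matrix (Fin 4) (Fin 4) F)ᵀ
        = (g : Matrix (Fin 4) (Fin 4) F) * (szJ F * (g : Matrix (Fin 4) (Fin 4) F)ᵀ * szJ F) * szJ F := by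
          rw [Matrix.mul_assoc _ _ (szJ F), Matrix.mul_assoc _ (szJ F) (szJ F), szJ_mul_szJ, Matrix.mul_one,
            Matrix.mul_assoc]
      _ = szJ F := by rw [hr, Matrix.one_mul]
  have := congrFun (congrFun h2 i) j
  rw [← this]
  simp [szJ, Matrix.mul_apply, Matrix.vecMul, dotProduct, Fin.sum_univ_four]
  ring

/-- Predicate: `g` lies in the defining set of the Suzuki group. -/
def MemSz (θ : F →+* F) (g : GL (Fin 4) F) : Prop :=
  g ∈ Sp4 F ∧ star4 (g : Matrix (Fin 4) (Fin 4) F) = (g : Matrix (Fin 4) (Fin 4) F).map θ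

theorem star4_one : star4 (1 : Matrix (Fin 4) (Fin 4) F) = 1 := by
  ext p r
  fin_cases p <;> fin_cases r <;> simp [star4, pairOf, Matrix.one_apply]

theorem star4_mul [CharP F 2] {g h : GL (Fin 4) F} (hg : g ∈ Sp4 F) (hh : h ∈ Sp4 F) :
    star4 ((g : Matrix (Fin 4) (Fin 4) F) * (h : Matrix (Fin 4) (Fin 4) F)) =
      star4 (g : Matrix (Fin 4) (Fin 4) F) * star4 (h : Matrix (Fin 4) (Fin 4) F) := by
  have two : (2 : F) = 0 := CharTwo.two_eq_zero
  ext p r
  have hc := sp4_cols hh (pairOf r).1 (pairOf r).2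
  have hr := sp4_rows hg (pairOf p).1 (pairOf p).2
  have hJ : ∀ s : Fin 4, szJ F (pairOf s).1 (pairOf s).2 = 0 := by
    intro s; fin_cases s <;> simp [szJ, pairOf]
  rw [hJ] at hc hr
  simp only [star4, Matrix.of_apply, Matrix.mul_apply, Fin.sum_univ_four]
  generalize (pairOf p).1 = k at *
  generalize (pairOf p).2 = l at *
  generalize (pairOf r).1 = i at *
  generalize (pairOf r).2 = j at *
  simp only [pairOf, Matrix.cons_val_zero, Matrix.cons_val_one, Matrix.cons_val, Fin.isValue]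
  generalize (g : Matrix (Fin 4) (Fin 4) F) k 0 = a0 at *
  generalize (g : Matrix (Fin 4) (Fin 4) F) k 1 = a1 at *
  generalize (g : Matrix (Fin 4) (Fin 4) F) k 2 = a2 at *
  generalize (g : Matrix (Fin 4) (Fin 4) F) k 3 = a3 at *
  generalize (g : Matrix (Fin 4) (Fin 4) F) l 0 = b0 at *
  generalize (g : Matrix (Fin 4) (Fin 4) F) l 1 = b1 at *
  generalize (g : Matrix (Fin 4) (Fin 4) F) l 2 = b2 at *
  generalize (g : Matrix (Fin 4) (Fin 4) F) l 3 = b3 at *
  generalize (h : Matrix (Fin 4) (Fin 4) F) 0 i = c0 at *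
  generalize (h : Matrix (Fin 4) (Fin 4) F) 1 i = c1 at *
  generalize (h : Matrix (Fin 4) (Fin 4) F) 2 i = c2 at *
  generalize (h : Matrix (Fin 4) (Fin 4) F) 3 i = c3 at *
  generalize (h : Matrix (Fin 4) (Fin 4) F) 0 j = d0 at *
  generalize (h : Matrix (Fin 4) (Fin 4) F) 1 j = d1 at *
  generalize (h : Matrix (Fin 4) (Fin 4) F) 2 j = d2 at *
  generalize (h : Matrix (Fin 4) (Fin 4) F) 3 j = d3 at *
  linear_combination (norm := skip) (a0 * b3 - b0 * a3) * hc + (c1 * d2 - c2 * d1) * hr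
  ring_nf
  reduce_mod_char!

theorem memSz_one (θ : F →+* F) : MemSz θ 1 := by
  refine ⟨one_mem _, ?_⟩
  rw [Units.val_one, star4_one, Matrix.map_one _ (map_zero θ) (map_one θ)]

theorem memSz_mul [CharP F 2] {θ : F →+* F} {g h : GL (Fin 4) F} (hg : MemSz θ g) (hh : MemSz θ h) :
    MemSz θ (g * h) := by
  refine ⟨mul_mem hg.1 hh.1, ?_⟩
  rw [Units.val_mul, star4_mul hg.1 hh.1, hg.2, hh.2, Matrix.map_mul]

theorem memSz_inv [CharP F 2] {θ : F →+* F} {g : GL (Fin 4) F} (hg : MemSz θ g) : MemSz θ g⁻¹ := by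
  refine ⟨inv_mem hg.1, ?_⟩
  have h1 := star4_mul (inv_mem hg.1) hg.1
  rw [← Units.val_mul, inv_mul_cancel, Units.val_one, star4_one, hg.2] at h1
  have h2 : ((g⁻¹ : GL (Fin 4) F) : Matrix (Fin 4) (Fin 4) F).map θ *
      (g : Matrix (Fin 4) (Fin 4) F).map θ = 1 := by
    rw [← Matrix.map_mul, ← Units.val_mul, inv_mul_cancel, Units.val_one,
      Matrix.map_one _ (map_zero θ) (map_one θ)]
  exact left_inv_eq_left_inv' h1.symm h2
where
  left_inv_eq_left_inv' {a b c : Matrix (Fin 4) (Fin 4) F} (ha : a * c = 1) (hb : b * c = 1) : a = b := by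
    rw [← mul_one a, ← mul_eq_one_comm.mp hb, ← mul_assoc, ha, one_mul]

theorem mem_sz_iff [CharP F 2] {θ : F →+* F} {e : ℕ} (he : ∀ x, θ x = x ^ e) (g : GL (Fin 4) F) :
    g ∈ Sz F e ↔ MemSz θ g := by
  have hm : ∀ h : GL (Fin 4) F, (h : Matrix (Fin 4) (Fin 4) F).map (fun x => x ^ e) =
      (h : Matrix (Fin 4) (Fin 4) F).map θ := fun h => by
    ext i j; simp [he]
  constructor
  · intro hg
    refine Subgroup.closure_induction (p := fun x _ => MemSz θ x) ?_ (memSz_one θ)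
      (fun _ _ _ _ hx hy => memSz_mul hx hy) (fun _ _ hx => memSz_inv hx) hg
    rintro x ⟨h1, h2⟩
    exact ⟨h1, h2.trans (hm x)⟩
  · rintro ⟨h1, h2⟩
    exact Subgroup.subset_closure ⟨h1, h2.trans (hm g).symm⟩

/-! ### The root, diagonal and Weyl elements -/

/-- The matrix of `szU θ a b`. -/
def szUMat (θ : F →+* F) (a b : F) : Matrix (Fin 4) (Fin 4) F :=
  !![1, a, b, a * b + a ^ 2 * θ a + θ b; 0, 1, θ a, b + a * θ a; 0, 0, 1, a; 0, 0, 0, 1]

theorem szUMat_mul [CharP F 2] (θ : F →+* F) (hθ : ∀ x, θ (θ x) = x ^ 2) (a b c d : F) :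
    szUMat θ a b * szUMat θ c d = szUMat θ (a + c) (b + d + a * θ c) := by
  have two : (2 : F) = 0 := CharTwo.two_eq_zero
  ext i j
  fin_cases i <;> fin_cases j <;>
    simp [szUMat, Matrix.mul_apply, Fin.sum_univ_four, hθ, map_add, map_mul] <;>
    ring_nf <;> reduce_mod_char!

theorem szUMat_zero (θ : F →+* F) : szUMat θ (0 : F) 0 = 1 := by
  ext i j
  fin_cases i <;> fin_cases j <;> simp [szUMat]

/-- The element of the unipotent subgroup with parameters `a`, `b`. -/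
def szU [CharP F 2] (θ : F →+* F) (hθ : ∀ x, θ (θ x) = x ^ 2) (a b : F) : GL (Fin 4) F :=
  ⟨szUMat θ a b, szUMat θ a (b + a * θ a),
    by
      rw [szUMat_mul θ hθ, CharTwo.add_self_eq_zero, show b + (b + a * θ a) + a * θ a = 0 by
        rw [← add_assoc, CharTwo.add_self_eq_zero, zero_add, CharTwo.add_self_eq_zero], szUMat_zero],
    by
      rw [szUMat_mul θ hθ, CharTwo.add_self_eq_zero, show b + a * θ a + b + a * θ a = 0 by
        rw [add_assoc, CharTwo.add_self_eq_zero], szUMat_zero]⟩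

variable [CharP F 2] {θ : F →+* F} (hθ : ∀ x, θ (θ x) = x ^ 2)

theorem coe_szU (a b : F) : (szU θ hθ a b : Matrix (Fin 4) (Fin 4) F) = szUMat θ a b := rfl

theorem szU_mul (a b c d : F) :
    szU θ hθ a b * szU θ hθ c d = szU θ hθ (a + c) (b + d + a * θ c) :=
  Units.ext (szUMat_mul θ hθ a b c d)

theorem szU_zero : szU θ hθ 0 0 = 1 := Units.ext (szUMat_zero θ)

theorem memSz_szU (a b : F) : MemSz θ (szU θ hθ a b) := by
  have two : (2 : F) = 0 := CharTwo.two_eq_zero
  refine ⟨(mem_sp4_iff _).mpr ?_, ?_⟩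
  · rw [coe_szU]
    ext i j
    fin_cases i <;> fin_cases j <;>
      simp [szUMat, szJ, Matrix.mul_apply, Fin.sum_univ_four, CharTwo.add_self_eq_zero] <;>
      ring_nf <;> reduce_mod_char!
  · rw [coe_szU]
    ext p r
    fin_cases p <;> fin_cases r <;>
      simp [szUMat, star4, pairOf, hθ, map_add, map_mul, CharTwo.neg_eq, CharTwo.sub_eq_add] <;>
      ring_nf <;> reduce_mod_char!

/-- The matrix of `szH θ x`. -/
def szHMat (θ : F →+* F) (x : F) : Matrix (Fin 4) (Fin 4) F :=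
  Matrix.diagonal ![x, θ x / x, x / θ x, 1 / x]

/-- The diagonal element with parameter `x`. -/
def szH (θ : F →+* F) : Fˣ →* GL (Fin 4) F :=
  MonoidHom.toHomUnits
    { toFun := fun x => szHMat θ (x : F)
      map_one' := by ext i j; fin_cases i <;> fin_cases j <;> simp [szHMat]
      map_mul' := fun x y => by
        rw [szHMat, szHMat, szHMat, Matrix.diagonal_mul_diagonal]
        congr 1
        funext i
        fin_cases i <;> simp <;> field_simp }

omit [CharP F 2] in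
theorem coe_szH (x : Fˣ) : (szH θ x : Matrix (Fin 4) (Fin 4) F) = szHMat θ (x : F) := rfl

include hθ in
theorem memSz_szH (x : Fˣ) : MemSz θ (szH θ x) := by
  have hx : (x : F) ≠ 0 := x.ne_zero
  have hx' : θ (x : F) ≠ 0 := (map_ne_zero θ).mpr hx
  refine ⟨(mem_sp4_iff _).mpr ?_, ?_⟩
  · rw [coe_szH]
    ext i j
    fin_cases i <;> fin_cases j <;> simp [szHMat, szJ, Matrix.mul_apply, Fin.sum_univ_four] <;> field_simp
  · rw [coe_szH]
    ext p r
    fin_cases p <;> fin_cases r <;> simp [szHMat, star4, pairOf, hθ] <;> field_simp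

/-- The Weyl element. -/
def szW (F : Type*) [Field F] : GL (Fin 4) F := ⟨szJ F, szJ F, szJ_mul_szJ, szJ_mul_szJ⟩

omit [CharP F 2] in
theorem coe_szW : (szW F : Matrix (Fin 4) (Fin 4) F) = szJ F := rfl

omit [CharP F 2] in
theorem szW_inv : (szW F)⁻¹ = szW F := Units.ext rfl

theorem memSz_szW : MemSz θ (szW F) := by
  refine ⟨(mem_sp4_iff _).mpr ?_, ?_⟩
  · rw [coe_szW]
    ext i j
    fin_cases i <;> fin_cases j <;> simp [szJ, Matrix.mul_apply, Fin.sum_univ_four]
  · rw [coe_szW]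
    ext p r
    fin_cases p <;> fin_cases r <;>
      simp [szJ, star4, pairOf, CharTwo.neg_eq]

theorem szH_conj_szU (x : Fˣ) (a b : F) :
    szH θ x * szU θ hθ a b * (szH θ x)⁻¹ =
      szU θ hθ ((x : F) ^ 2 / θ (x : F) * a) (θ (x : F) * b) := by
  rw [mul_inv_eq_iff_eq_mul]
  have hx : (x : F) ≠ 0 := x.ne_zero
  have hx' : θ (x : F) ≠ 0 := (map_ne_zero θ).mpr hx
  refine Units.ext ?_
  rw [Units.val_mul, Units.val_mul, coe_szH, coe_szU, coe_szU]
  ext i j
  fin_cases i <;> fin_cases j <;>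
    simp [szHMat, szUMat, Matrix.mul_apply, Fin.sum_univ_four, map_div₀, hθ] <;> field_simp

omit [CharP F 2] in
theorem szW_conj_szH (x : Fˣ) : szW F * szH θ x * (szW F)⁻¹ = szH θ x⁻¹ := by
  rw [szW_inv]
  have hx : (x : F) ≠ 0 := x.ne_zero
  have hx' : θ (x : F) ≠ 0 := (map_ne_zero θ).mpr hx
  refine Units.ext ?_
  rw [Units.val_mul, Units.val_mul, coe_szH, coe_szH, coe_szW]
  ext i j
  fin_cases i <;> fin_cases j <;>
    simp [szJ, szHMat, Matrix.mul_apply, Matrix.vecMul_diagonal, Fin.sum_univ_four] <;> field_simp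

/-! ### Decomposition -/

theorem exists_szH_szU_of_corner {g : GL (Fin 4) F} (hg : MemSz θ g)
    (h3 : (g : Matrix (Fin 4) (Fin 4) F) 3 0 = 0) :
    ∃ (x : Fˣ) (a b : F), g = szH θ x * szU θ hθ a b := by
  have two : (2 : F) = 0 := CharTwo.two_eq_zero
  obtain ⟨hsp, hst⟩ := hg
  set M : Matrix (Fin 4) (Fin 4) F := (g : Matrix (Fin 4) (Fin 4) F) with hM
  have S := fun p r => congrFun (congrFun hst p) r
  have e00 := S 0 0
  have e10 := S 1 0
  have e20 := S 2 0
  have e30 := S 3 0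
  simp only [star4, pairOf, Matrix.of_apply, Matrix.map_apply, ← hM, Matrix.cons_val_zero,
    Matrix.cons_val_one, Matrix.cons_val, Fin.isValue] at e00 e10 e20 e30
  rw [h3, map_zero] at e30
  have cols := sp4_cols hsp 0 1
  simp only [szJ, ← hM, Matrix.of_apply, Matrix.cons_val', Matrix.cons_val_zero, Matrix.cons_val_one,
    Matrix.cons_val, Fin.isValue, Matrix.empty_val', Matrix.cons_val_fin_one] at cols
  rw [h3] at cols e20
  have h2 : M 2 0 = 0 := by
    have key : M 2 0 * θ (M 2 0) = 0 := by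
      linear_combination (-(M 2 0)) * e20 + M 1 0 * e30
    rcases mul_eq_zero.mp key with h | h
    · exact h
    · exact (map_eq_zero θ).mp h
  simp only [h2, map_zero, mul_zero, zero_mul, sub_zero, add_zero, zero_add] at cols e00 e10 e20
  have h1 : M 1 0 = 0 := by
    have key : M 1 0 ^ 2 * θ (M 1 0) = 0 := by
      linear_combination (-(M 1 0 ^ 2)) * e10 + M 0 0 * M 1 0 * cols - M 0 0 ^ 2 * e20
    rcases mul_eq_zero.mp key with h | h
    · exact pow_eq_zero_iff (by norm_num) |>.mp h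
    · exact (map_eq_zero θ).mp h
  have hv0 : M 0 0 ≠ 0 := by
    intro h0
    have := sp4_cols hsp 0 3
    simp [szJ, ← hM, h0, h1, h2, h3] at this
  refine ⟨Units.mk0 (M 0 0) hv0, M 0 1 / M 0 0, M 0 2 / M 0 0, Units.ext ?_⟩
  have hθ0 : θ (M 0 0) ≠ 0 := (map_ne_zero θ).mpr hv0
  simp only [h1, map_zero, mul_zero, sub_zero, zero_mul] at e00 e10 e20 cols
  have g21 : M 2 1 = 0 := (mul_eq_zero.mp (by linear_combination e10)).resolve_left hv0
  have g31 : M 3 1 = 0 := by
    simp [g21] at cols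
    exact cols.resolve_left hv0
  have g11 : M 1 1 = θ (M 0 0) / M 0 0 := by
    field_simp
    linear_combination e00
  have e01 := S 0 1
  have e11 := S 1 1
  have e21 := S 2 1
  have e31 := S 3 1
  have e13 := S 1 3
  have e03 := S 0 3
  have e02 := S 0 2
  have e12 := S 1 2
  have e22 := S 2 2
  have e32 := S 3 2
  have e33 := S 3 3
  have e23 := S 2 3
  simp only [star4, pairOf, Matrix.of_apply, Matrix.map_apply, ← hM, Matrix.cons_val_zero,
    Matrix.cons_val_one, Matrix.cons_val, Fin.isValue] at e01 e11 e21 e31 e13 e03 e02 e12 e22 e32 e33 e23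
  rw [g11, map_div₀, hθ] at e11
  simp only [h1, h2, h3, g21, g31, mul_zero, zero_mul, sub_zero, zero_sub] at e01 e11 e21 e31
  have g32 : M 3 2 = 0 := by
    have : M 0 0 * M 3 2 = 0 := by
      have := sp4_cols hsp 0 2
      simpa [szJ, ← hM, h1, h2, h3] using this
    exact (mul_eq_zero.mp this).resolve_left hv0
  have g22 : M 2 2 = M 0 0 / θ (M 0 0) := by
    field_simp at e11 ⊢
    linear_combination e11
  have g12 : M 1 2 = θ (M 0 1) / M 0 0 := by
    field_simp
    linear_combination e01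
  have g33 : M 3 3 = 1 / M 0 0 := by
    field_simp
    have := sp4_cols hsp 0 3
    simp [szJ, ← hM, h1, h2, h3] at this
    linear_combination this
  have g23 : M 2 3 = M 0 1 / θ (M 0 0) := by
    have := sp4_cols hsp 1 3
    simp [szJ, ← hM, g11, g21, g31, g33] at this
    field_simp at this ⊢
    linear_combination this - M 0 1 * two
  have g13 : M 1 3 = M 0 2 * θ (M 0 0) / M 0 0 ^ 2 + M 0 1 * θ (M 0 1) / M 0 0 ^ 2 := by
    have := sp4_cols hsp 2 3
    simp [szJ, ← hM, g12, g22, g32, g33, g23] at this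
    field_simp at this ⊢
    linear_combination this - (θ (M 0 0) * M 0 2 + M 0 1 * θ (M 0 1)) * two
  have g03 : M 0 3 = M 0 1 * M 0 2 / M 0 0 + M 0 1 ^ 2 * θ (M 0 1) / (M 0 0 * θ (M 0 0)) +
      M 0 0 * θ (M 0 2) / θ (M 0 0) := by
    simp only [g11, g13] at e02
    field_simp at e02 ⊢
    linear_combination (-1 : F) * e02 - M 0 0 ^ 2 * θ (M 0 2) * two
  rw [Units.val_mul, coe_szH, coe_szU, ← hM]
  ext i j
  fin_cases i <;> fin_cases j <;>
    simp [szHMat, szUMat, Matrix.mul_apply, Fin.sum_univ_four, Units.val_mk0, h1, h2, h3, g11, g21, g31,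
      g12, g22, g32, g33, g23, g13, g03, map_div₀] <;>
    field_simp

/-- Every element of the Suzuki group lies in `B` or in `U w B`. -/
theorem exists_decomp {g : GL (Fin 4) F} (hg : MemSz θ g) :
    (∃ (x : Fˣ) (a b : F), g = szH θ x * szU θ hθ a b) ∨
      ∃ (a' b' : F) (x : Fˣ) (a b : F),
        g = szU θ hθ a' b' * szW F * (szH θ x * szU θ hθ a b) := by
  have two : (2 : F) = 0 := CharTwo.two_eq_zero
  set M : Matrix (Fin 4) (Fin 4) F := (g : Matrix (Fin 4) (Fin 4) F) with hM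
  by_cases h3 : M 3 0 = 0
  · exact Or.inl (exists_szH_szU_of_corner hθ hg h3)
  right
  obtain ⟨hsp, hst⟩ := hg
  have S := fun p r => congrFun (congrFun hst p) r
  have e00 := S 0 0
  have e10 := S 1 0
  have e20 := S 2 0
  have e30 := S 3 0
  simp only [star4, pairOf, Matrix.of_apply, Matrix.map_apply, ← hM, Matrix.cons_val_zero,
    Matrix.cons_val_one, Matrix.cons_val, Fin.isValue] at e00 e10 e20 e30
  have cols := sp4_cols hsp 0 1
  simp only [szJ, ← hM, Matrix.of_apply, Matrix.cons_val', Matrix.cons_val_zero, Matrix.cons_val_one,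
    Matrix.cons_val, Fin.isValue, Matrix.empty_val', Matrix.cons_val_fin_one] at cols
  have hθ3 : θ (M 3 0) ≠ 0 := (map_ne_zero θ).mpr h3
  -- the Plücker relations of the first column
  let s := M 1 0 * M 2 1 - M 2 0 * M 1 1
  have q1 : M 1 0 * θ (M 3 0) + M 2 0 * θ (M 2 0) + M 3 0 * s = 0 := by
    simp only [s]
    linear_combination (-(M 1 0)) * e30 + (-(M 2 0)) * e20 +
      (M 2 0 * M 1 0 * M 3 1 - M 2 0 * M 3 0 * M 1 1) * two
  have q2 : M 0 0 * θ (M 3 0) + M 2 0 * s + M 3 0 * θ (M 1 0) = 0 := by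
    simp only [s]
    linear_combination (-(M 0 0)) * e30 + (-(M 3 0)) * e10 + M 2 0 * cols +
      (M 0 0 * M 2 0 * M 3 1 * 0) * two + 0 * e00 - (M 2 0 * M 3 0 * M 0 1 + M 2 0 * M 2 0 * M 1 1) * two
  let a := M 2 0 / M 3 0
  let b := M 1 0 / M 3 0 + a * θ a
  have hN : M 0 0 = M 3 0 * (a * b + a ^ 2 * θ a + θ b) := by
    simp only [b, a, map_add, map_mul, map_div₀, hθ]
    field_simp
    linear_combination M 3 0 * q2 - M 2 0 * q1 - (M 3 0 * M 2 0 * 0) * two
      - (M 2 0 ^ 2 * θ (M 2 0)) * two - (M 3 0 ^ 2 * θ (M 1 0)) * two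
  have hmem : MemSz θ (szW F * (szU θ hθ a b)⁻¹ * g) :=
    memSz_mul (memSz_mul (memSz_szW) (memSz_inv (memSz_szU hθ a b))) ⟨hsp, hst⟩
  have hcol : M *ᵥ Pi.single 0 1 = M 3 0 • (szUMat θ a b *ᵥ Pi.single 3 1) := by
    ext i
    fin_cases i <;> simp [szUMat, Matrix.mulVec_single_one]
    · exact hN
    · simp only [b]
      have : a * θ a + a * θ a = 0 := CharTwo.add_self_eq_zero _
      rw [add_assoc, this, add_zero]
      field_simp
    · simp only [a]; field_simp
  have hx3 : ((szW F * (szU θ hθ a b)⁻¹ * g : GL (Fin 4) F) : Matrix (Fin 4) (Fin 4) F) 3 0 = 0 := by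
    have hc : ((szW F * (szU θ hθ a b)⁻¹ * g : GL (Fin 4) F) : Matrix (Fin 4) (Fin 4) F) *ᵥ Pi.single 0 1 =
        M 3 0 • (szJ F *ᵥ Pi.single 3 1) := by
      rw [Units.val_mul, Units.val_mul, ← Matrix.mulVec_mulVec, ← Matrix.mulVec_mulVec, coe_szW, ← hM,
        hcol, Matrix.mulVec_smul, Matrix.mulVec_smul, ← coe_szU hθ a b]
      rw [Matrix.mulVec_mulVec (Pi.single 3 1) ((szU θ hθ a b)⁻¹ : GL (Fin 4) F).val (szU θ hθ a b).val,
        ← Units.val_mul, inv_mul_cancel, Units.val_one, Matrix.one_mulVec]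
    have := congrFun hc 3
    simpa [szJ, Matrix.mulVec_single_one] using this
  obtain ⟨x, c, d, h⟩ := exists_szH_szU_of_corner hθ hmem hx3
  refine ⟨a, b, x, c, d, ?_⟩
  rw [← h, mul_assoc (szW F) _ g, ← mul_assoc _ (szW F) (_ * g), mul_assoc (szU θ hθ a b) (szW F) (szW F)]
  have hw2 : szW F * szW F = 1 := by
    nth_rewrite 1 [← szW_inv (F := F)]
    exact inv_mul_cancel _
  rw [hw2, mul_one, mul_inv_cancel_left]

end CfsgLib.Suzuki
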