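import Cfsg.Agent.Lib.Suzuki.Basic

set_option autoImplicit false

/-! The endomorphism `θ` of the field with `2 ^ (2 m + 1)` elements used for the Suzuki groups. -/

namespace CfsgLib.Suzuki

theorem charP_two_of_card {F : Type*} [Field F] [Fintype F] {m : ℕ}
    (hF : Fintype.card F = 2 ^ (2 * m + 1)) : CharP F 2 := by
  obtain ⟨p, hp⟩ := CharP.exists F
  obtain ⟨k, hpr, hk⟩ := FiniteField.card F p
  have h2 : p ∣ 2 ^ (2 * m + 1) := hF ▸ hk ▸ dvd_pow_self p k.ne_zero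
  have : p = 2 := (Nat.prime_dvd_prime_iff_eq hpr Nat.prime_two).mp (hpr.dvd_of_dvd_pow h2)
  exact this ▸ hp

theorem exists_theta {F : Type*} [Field F] [Fintype F] [CharP F 2] {m : ℕ}
    (hF : Fintype.card F = 2 ^ (2 * m + 1)) :
    ∃ θ : F →+* F, (∀ x, θ x = x ^ 2 ^ (m + 1)) ∧ (∀ x, θ (θ x) = x ^ 2) := by
  haveI := Fact.mk Nat.prime_two
  refine ⟨iterateFrobenius F 2 (m + 1), fun x => iterateFrobenius_def 2 (m + 1) x, fun x => ?_⟩
  rw [iterateFrobenius_def, iterateFrobenius_def, ← pow_mul, ← pow_add,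
    show m + 1 + (m + 1) = (2 * m + 1) + 1 by ring, pow_succ, pow_mul, ← hF, FiniteField.pow_card]

end CfsgLib.Suzuki
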