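import Cfsg.Agent.Lib.Suzuki.Generation
import Cfsg.Agent.Lib.CharBound.Irreducible

set_option autoImplicit false

/-! The lower bound `2 ^ m (q - 1)` for the degrees of non-trivial representations of `Sz(q)`. -/

namespace CfsgLib.Suzuki

open Cfsg.Lie Module
open scoped MatrixGroups

theorem degree_bound {F : Type*} [Field F] [Fintype F] {m : ℕ} (hm : 1 ≤ m)
    (hF : Fintype.card F = 2 ^ (2 * m + 1)) {V : Type*} [AddCommGroup V] [Module ℂ V]
    [FiniteDimensional ℂ V] (ρ : Representation ℂ (Sz F (2 ^ (m + 1))) V) (hρ : ρ.IsIrreducible)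
    (hk : 2 ≤ finrank ℂ V) : 2 ^ m * (2 ^ (2 * m + 1) - 1) ≤ finrank ℂ V := by
  classical
  haveI := charP_two_of_card hF
  obtain ⟨θ, he, hθ⟩ := exists_theta hF
  have hq : 4 ≤ Fintype.card F := by
    rw [hF]; exact le_trans (by norm_num) (Nat.pow_le_pow_right two_pos (show 2 ≤ 2 * m + 1 by omega))
  let U : F → F → Sz F (2 ^ (m + 1)) := fun a b => sU hθ he a b
  let f : F → V →ₗ[ℂ] V := fun b => ρ (U 0 b)
  have hf : ∀ b c, f b * f c = f (b + c) := fun b c => by
    simp only [f, U]; rw [← map_mul, sU_mul]; simp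
  have hf0 : f 0 = 1 := by simp only [f, U, sU_zero, map_one]
  have hcomm : ∀ b c, Commute (f b) (f c) := fun b c => by
    rw [Commute, SemiconjBy, hf, hf, add_comm]
  -- the centre acts non-trivially
  obtain ⟨b₀, hb₀⟩ : ∃ b, f b ≠ 1 := by
    by_contra hcon
    push Not at hcon
    have hker : ∀ g, ρ g = 1 := by
      intro g
      have htop := normal_eq_top hθ he hq
        (MonoidHom.ker (ρ : Sz F (2 ^ (m + 1)) →* (V →ₗ[ℂ] V))) (fun b => hcon b)
      have hg : g ∈ MonoidHom.ker (ρ : Sz F (2 ^ (m + 1)) →* (V →ₗ[ℂ] V)) := by rw [htop]; trivial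
      exact hg
    have := CfsgLib.CharBound.finrank_eq_one_of_trivial ρ hρ hker
    omega
  obtain ⟨v, χ, hv0, hχb, hv⟩ := CfsgLib.CharBound.exists_nontrivial_eigen f hcomm b₀ (N := 2)
    (two_ne_zero) (by rw [pow_two, hf, CharTwo.add_self_eq_zero, hf0]) hb₀
  have smul_inj : ∀ {a b : ℂ}, a • v = b • v → a = b := fun h => smul_left_injective ℂ hv0 h
  have hχ0 : χ 0 = 1 := smul_inj (by rw [← hv, hf0, Module.End.one_apply, one_smul])
  have hχadd : ∀ b c, χ (b + c) = χ b * χ c := fun b c => smul_inj (by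
    rw [← hv, ← hf, Module.End.mul_apply, hv c, map_smul, hv b, smul_smul, mul_comm])
  let ψ : AddChar F ℂ := ⟨χ, hχ0, hχadd⟩
  have hψ : ψ b₀ ≠ 1 := hχb
  have hψ2 : ∀ b, ψ b * ψ b = 1 := fun b => by
    rw [← AddChar.map_add_eq_mul, CharTwo.add_self_eq_zero, AddChar.map_zero_eq_one]
  -- shifts of a non-trivial character give all characters
  have hshift : ∀ (φ : AddChar F ℂ), (∃ b, φ b ≠ 1) →
      Function.Injective (fun μ : F => φ.mulShift μ) := by
    intro φ ⟨b, hb⟩ μ μ' h
    by_contra hne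
    have h1 := DFunLike.congr_fun h (b / (μ + μ'))
    simp only [AddChar.mulShift_apply] at h1
    have h2 : μ + μ' ≠ 0 := fun h => hne (CharTwo.add_eq_zero.mp h)
    apply hb
    calc φ b = φ (μ * (b / (μ + μ')) + μ' * (b / (μ + μ'))) := by
          congr 1; field_simp
      _ = φ (μ' * (b / (μ + μ'))) * φ (μ' * (b / (μ + μ'))) := by rw [AddChar.map_add_eq_mul, h1]
      _ = 1 := by rw [← AddChar.map_add_eq_mul, CharTwo.add_self_eq_zero, AddChar.map_zero_eq_one]
  let W : Fˣ → Submodule ℂ V := fun μ => ⨅ b, LinearMap.ker (f b - ψ ((μ : F) * b) • LinearMap.id)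
  have memW : ∀ (μ : Fˣ) x, x ∈ W μ ↔ ∀ b, f b x = ψ ((μ : F) * b) • x := fun μ x => by
    simp [W, sub_eq_zero]
  have hθbij : Function.Bijective θ := Finite.injective_iff_bijective.mp θ.injective
  have hW0 : ∀ μ, W μ ≠ ⊥ := by
    intro μ
    obtain ⟨x, hx⟩ := hθbij.2 ((μ⁻¹ : Fˣ) : F)
    have hx0 : x ≠ 0 := fun h => by rw [h, map_zero] at hx; exact (μ⁻¹).ne_zero hx.symm
    let t := sH hθ he (Units.mk0 x hx0)
    refine (Submodule.ne_bot_iff _).mpr ⟨ρ t v, (memW μ _).mpr fun b => ?_, fun h => hv0 ?_⟩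
    · have hc : U 0 b * t = t * U 0 ((μ : F) * b) := by
        have := sH_conj_sU hθ he (Units.mk0 x hx0) 0 ((μ : F) * b)
        simp only [Units.val_mk0, mul_zero, hx, ← mul_assoc, Units.inv_mul, one_mul] at this
        rw [mul_inv_eq_iff_eq_mul] at this
        exact this.symm
      rw [← Module.End.mul_apply, show f b = ρ (U 0 b) from rfl, ← map_mul, hc, map_mul,
        Module.End.mul_apply, show ρ (U 0 ((μ : F) * b)) v = f ((μ : F) * b) v from rfl, hv, map_smul]
      rfl
    · have := congrArg (ρ t⁻¹) h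
      rwa [map_zero, ← Module.End.mul_apply, ← map_mul, inv_mul_cancel, map_one,
        Module.End.one_apply] at this
  have hd : ∀ μ, 2 ^ m ≤ finrank ℂ (W μ) := by
    intro μ
    haveI : Nontrivial (W μ) := Submodule.nontrivial_iff_ne_bot.mpr (hW0 μ)
    let ψ' := ψ.mulShift (μ : F)
    have hψ' : ∃ b, ψ' b ≠ 1 := ⟨b₀ / (μ : F), by
      rw [AddChar.mulShift_apply, mul_div_cancel₀ _ μ.ne_zero]; exact hψ⟩
    have hinv : ∀ a, ∀ x ∈ W μ, ρ (U a 0) x ∈ W μ := fun a x hx => (memW μ _).mpr fun b => by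
      have hc : U 0 b * U a 0 = U a 0 * U 0 b := by
        simp only [U, sU_mul]; simp [add_comm]
      rw [← Module.End.mul_apply, show f b = ρ (U 0 b) from rfl, ← map_mul, hc, map_mul,
        Module.End.mul_apply, show ρ (U 0 b) x = f b x from rfl, (memW μ x).mp hx b, map_smul]
    have hinv' : ∀ a, ∀ x ∈ W μ, ρ ((U a 0)⁻¹) x ∈ W μ := fun a x hx => by
      have : (U a 0)⁻¹ = U a 0 * U 0 (a * θ a) := inv_eq_of_mul_eq_one_right (by
        simp only [U, sU_mul]
        simp [CharTwo.add_self_eq_zero, sU_zero])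
      rw [this, map_mul, Module.End.mul_apply]
      refine hinv a _ ?_
      rw [show ρ (U 0 (a * θ a)) x = f (a * θ a) x from rfl, (memW μ x).mp hx]
      exact Submodule.smul_mem _ _ hx
    let X : F → (W μ →ₗ[ℂ] W μ)ˣ := fun a =>
      ⟨(ρ (U a 0)).restrict (hinv a), (ρ (U a 0)⁻¹).restrict (hinv' a),
        LinearMap.ext fun x => Subtype.ext (by
          change ρ (U a 0) (ρ (U a 0)⁻¹ (x : V)) = (x : V)
          rw [← Module.End.mul_apply, ← map_mul, mul_inv_cancel, map_one, Module.End.one_apply]),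
        LinearMap.ext fun x => Subtype.ext (by
          change ρ (U a 0)⁻¹ (ρ (U a 0) (x : V)) = (x : V)
          rw [← Module.End.mul_apply, ← map_mul, inv_mul_cancel, map_one, Module.End.one_apply])⟩
    let Φ : F → F → ℂ := fun a c => ψ' (a * θ c + c * θ a)
    have hconj : ∀ a c, ((X c * X a * (X c)⁻¹ : (W μ →ₗ[ℂ] W μ)ˣ) : W μ →ₗ[ℂ] W μ) =
        Φ a c • (X a : W μ →ₗ[ℂ] W μ) := by
      intro a c
      refine LinearMap.ext fun x => Subtype.ext ?_
      have hg : U c 0 * U a 0 * (U c 0)⁻¹ = U 0 (a * θ c + c * θ a) * U a 0 := by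
        rw [mul_inv_eq_iff_eq_mul]
        simp only [U, sU_mul]
        congr 1
        · ring
        · simp [add_comm, add_left_comm]
          rw [← add_assoc, CharTwo.add_self_eq_zero, zero_add]
      have hm' : ρ (U a 0) (x : V) ∈ W μ := hinv a _ x.2
      calc _ = ρ (U c 0) (ρ (U a 0) (ρ (U c 0)⁻¹ (x : V))) := rfl
        _ = ρ (U c 0 * U a 0 * (U c 0)⁻¹) (x : V) := by
          rw [map_mul, map_mul]; rfl
        _ = f (a * θ c + c * θ a) (ρ (U a 0) (x : V)) := by rw [hg, map_mul]; rfl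
        _ = _ := (memW μ _).mp hm' _
    -- the radical of the commutator pairing has at most two elements
    have hcard : Fintype.card (AddChar F ℂ) = Fintype.card F := AddChar.card_eq
    have hbij : Function.Bijective (fun s : F => ψ'.mulShift s) :=
      (Fintype.bijective_iff_injective_and_card _).mpr ⟨hshift ψ' hψ', hcard.symm⟩
    obtain ⟨ν, hν⟩ := hbij.2 (ψ'.compAddMonoidHom θ.toAddMonoidHom)
    have hν' : ∀ y, ψ' (θ y) = ψ' (ν * y) := fun y => by
      have := DFunLike.congr_fun hν y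
      simpa [AddChar.mulShift_apply] using this.symm
    have hrad : ∀ a, (∀ c, Φ a c = 1) → a = 0 ∨ a = θ ν := by
      intro a ha
      obtain ⟨s, rfl⟩ := hθbij.2 a
      have h1 : ∀ c, ψ' ((ν * s + θ (θ s)) * c) = 1 := fun c => by
        have := ha c
        simp only [Φ, AddChar.map_add_eq_mul] at this
        rw [← map_mul θ, hν' (s * c)] at this
        rw [add_mul, AddChar.map_add_eq_mul, mul_assoc, mul_comm (θ (θ s)) c]
        exact this
      have h2 : ν * s + θ (θ s) = 0 := hshift ψ' hψ' (by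
        ext c; simp only [AddChar.mulShift_apply, zero_mul, AddChar.map_zero_eq_one]
        exact h1 c)
      by_cases hs : s = 0
      · left; rw [hs, map_zero]
      · right
        rw [hθ] at h2
        have : ν = s := mul_right_cancel₀ hs (by rw [CharTwo.add_eq_zero.mp h2, sq])
        rw [this]
    have hΦadd : ∀ a a' c, Φ (a + a') c = Φ a c * Φ a' c := fun a a' c => by
      simp only [Φ, ← AddChar.map_add_eq_mul]
      congr 1
      rw [map_add]; ring
    have hΦ2 : ∀ a c, Φ a c * Φ a c = 1 := fun a c => by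
      simp only [Φ, ← AddChar.map_add_eq_mul, CharTwo.add_self_eq_zero, AddChar.map_zero_eq_one]
    let R : Finset (F → ℂ) := Finset.univ.image Φ
    have hfib : (Finset.univ : Finset F).card ≤ 2 * R.card := by
      refine Finset.card_le_mul_card_image _ 2 fun y hy => ?_
      obtain ⟨a₁, -, ha₁⟩ := Finset.mem_image.mp hy
      refine le_trans (Finset.card_le_card (t := {a₁, a₁ + θ ν}) fun a ha => ?_) Finset.card_le_two
      have ha' : Φ a = y := (Finset.mem_filter.mp ha).2
      rcases hrad (a + a₁) (fun c => by rw [hΦadd, ha', ← ha₁, hΦ2]) with h | h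
      · simp [CharTwo.add_eq_zero.mp h]
      · have : a = a₁ + θ ν := by rw [← h, add_comm a a₁, ← add_assoc, CharTwo.add_self_eq_zero, zero_add]
        simp [this]
    have hrep : ∀ r : R, ∃ a, Φ a = r.1 := fun r => by
      obtain ⟨a, -, ha⟩ := Finset.mem_image.mp r.2; exact ⟨a, ha⟩
    choose rep hrep using hrep
    have hsq := CfsgLib.CharBound.card_le_finrank_sq (ι := R) (fun r => X (rep r)) X (fun r => r.1)
      Subtype.val_injective (fun r c => by rw [← hrep r]; exact hconj (rep r) c)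
    rw [Fintype.card_coe] at hsq
    rw [Finset.card_univ, hF, pow_succ, mul_comm] at hfib
    have h4 : (2 ^ m) ^ 2 ≤ finrank ℂ (W μ) ^ 2 := by
      rw [← pow_mul, mul_comm m 2, pow_two]; omega
    exact (Nat.pow_le_pow_iff_left two_ne_zero).mp h4
  have hb := CfsgLib.CharBound.card_mul_le_finrank f (fun μ : Fˣ => fun b => ψ ((μ : F) * b))
    (fun μ μ' h => Units.ext (hshift ψ ⟨b₀, hψ⟩ (DFunLike.ext _ _ fun b => by
      simpa [AddChar.mulShift_apply] using congrFun h b)))
    W (fun μ x hx b => (memW μ x).mp hx b) hd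
  rwa [Fintype.card_units, hF, mul_comm] at hb

end CfsgLib.Suzuki
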