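import Cfsg.Agent.Lib.Suzuki.Finite

set_option autoImplicit false

/-!
Inside `Cfsg.Lie.Sz F e`: the elements as subtype members, and the fact that a normal subgroup
containing the centre of the unipotent subgroup is everything.
-/

namespace CfsgLib.Suzuki

open Matrix Cfsg.Lie
open scoped MatrixGroups

variable {F : Type*} [Field F] [CharP F 2] {θ : F →+* F} (hθ : ∀ x, θ (θ x) = x ^ 2)
  {e : ℕ} (he : ∀ x, θ x = x ^ e)

/-- The unipotent element in the group. -/
def sU (a b : F) : Sz F e := ⟨szU θ hθ a b, (mem_sz_iff he _).mpr (memSz_szU hθ a b)⟩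

/-- The diagonal element in the group. -/
def sH : Fˣ →* Sz F e :=
  (szH θ).codRestrict (Sz F e) fun x => (mem_sz_iff he _).mpr (memSz_szH hθ x)

/-- The Weyl element in the group. -/
def sW : Sz F e := ⟨szW F, (mem_sz_iff he _).mpr memSz_szW⟩

include hθ he

theorem sU_mul (a b c d : F) : sU hθ he a b * sU hθ he c d = sU hθ he (a + c) (b + d + a * θ c) :=
  Subtype.ext (szU_mul hθ a b c d)

theorem sU_zero : sU hθ he 0 0 = 1 := Subtype.ext (szU_zero hθ)

theorem sH_conj_sU (x : Fˣ) (a b : F) :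
    sH hθ he x * sU hθ he a b * (sH hθ he x)⁻¹ =
      sU hθ he ((x : F) ^ 2 / θ (x : F) * a) (θ (x : F) * b) :=
  Subtype.ext (szH_conj_szU hθ x a b)

theorem sW_conj_sH (x : Fˣ) : sW he * sH hθ he x * (sW he)⁻¹ = sH hθ he x⁻¹ :=
  Subtype.ext (szW_conj_szH x)

theorem exists_decomp' (g : Sz F e) :
    (∃ (x : Fˣ) (a b : F), g = sH hθ he x * sU hθ he a b) ∨
      ∃ (a' b' : F) (x : Fˣ) (a b : F),
        g = sU hθ he a' b' * sW he * (sH hθ he x * sU hθ he a b) := by
  rcases exists_decomp hθ ((mem_sz_iff he g.1).mp g.2) with ⟨x, a, b, h⟩ | ⟨a', b', x, a, b, h⟩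
  · exact Or.inl ⟨x, a, b, Subtype.ext h⟩
  · exact Or.inr ⟨a', b', x, a, b, Subtype.ext h⟩

/-- A normal subgroup containing the centre of the unipotent subgroup is the whole group. -/
theorem normal_eq_top [Fintype F] (hq : 4 ≤ Fintype.card F) (M : Subgroup (Sz F e)) [M.Normal]
    (hM : ∀ b, sU hθ he 0 b ∈ M) : M = ⊤ := by
  classical
  let π := QuotientGroup.mk' M
  have hπ : ∀ b, π (sU hθ he 0 b) = 1 := fun b => (QuotientGroup.eq_one_iff _).mpr (hM b)
  let A : F → Sz F e ⧸ M := fun a => π (sU hθ he a 0)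
  let T : Fˣ →* Sz F e ⧸ M := π.comp (sH hθ he)
  let W := π (sW he)
  have hA : ∀ a b, π (sU hθ he a b) = A a := fun a b => by
    have : sU hθ he a b = sU hθ he a 0 * sU hθ he 0 b := by rw [sU_mul]; simp
    rw [this, map_mul, hπ, mul_one]
  have hadd : ∀ a c, A a * A c = A (a + c) := fun a c => by
    rw [← hA (a + c) (0 + 0 + a * θ c), ← sU_mul, map_mul]
  have hA0 : A 0 = 1 := hπ 0
  have hAinv : ∀ a, (A a)⁻¹ = A a := fun a => inv_eq_of_mul_eq_one_right (by
    rw [hadd, CharTwo.add_self_eq_zero, hA0])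
  have hTA : ∀ x a, T x * A a * (T x)⁻¹ = A ((x : F) ^ 2 / θ (x : F) * a) := fun x a => by
    change π _ * π _ * (π _)⁻¹ = _
    rw [← map_inv, ← map_mul, ← map_mul, sH_conj_sU, hA]
  have hWT : ∀ x, W * T x * W⁻¹ = T x⁻¹ := fun x => by
    change π _ * π _ * (π _)⁻¹ = π _
    rw [← map_inv, ← map_mul, ← map_mul, sW_conj_sH]
  -- the Weyl element modulo `M`
  obtain ⟨p, r, x₀, hW⟩ : ∃ (p r : F) (x₀ : Fˣ), W = A p * A r * T x₀ := by
    have hz : π (sW he * sU hθ he 0 1 * (sW he)⁻¹) = 1 := by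
      rw [map_mul, map_mul, hπ, mul_one, ← map_mul, mul_inv_cancel, map_one]
    rcases exists_decomp' hθ he (sW he * sU hθ he 0 1 * (sW he)⁻¹) with ⟨x, a, b, h⟩ | ⟨a', b', x, a, b, h⟩
    · exfalso
      have h' := congrArg (fun y : Sz F e => ((y : GL (Fin 4) F) : Matrix (Fin 4) (Fin 4) F) 3 0) h
      simp [sW, sU, sH, szW_inv, coe_szW, coe_szU, coe_szH, szJ, szUMat, szHMat, Matrix.mul_apply,
        Fin.sum_univ_four] at h'
    · rw [h, map_mul, map_mul, map_mul, hA, hA] at hz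
      refine ⟨a', a * (((x⁻¹ : Fˣ) : F) ^ 2 / θ ((x⁻¹ : Fˣ) : F)) ^ (0 : ℕ), x⁻¹, ?_⟩
      rw [pow_zero, mul_one]
      calc W = (A a')⁻¹ * (A a' * W * (T x * A a)) * (A a)⁻¹ * (T x)⁻¹ := by group
        _ = A a' * A a * T x⁻¹ := by
          rw [show A a' * W * (T x * A a) = 1 from hz, hAinv, hAinv, map_inv, mul_one]
  have hT : ∀ y, T y = 1 := by
    intro y
    have key : ∀ y : Fˣ, T (y ^ 4) = 1 := by
      intro y
      obtain ⟨k, hk⟩ : ∃ k, T y⁻¹ = A k * T y := by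
        have h1 : T y * (A (p + r)) * (T y)⁻¹ = A ((y : F) ^ 2 / θ (y : F) * (p + r)) := hTA y _
        refine ⟨p + r + (y : F) ^ 2 / θ (y : F) * (p + r), ?_⟩
        have hc : T x₀ * T y * (T x₀)⁻¹ = T y := by
          rw [← map_mul, ← map_inv, ← map_mul, mul_comm x₀ y, mul_inv_cancel_right]
        rw [← hWT, hW, hadd]
        calc A (p + r) * T x₀ * T y * (A (p + r) * T x₀)⁻¹
            = A (p + r) * (T x₀ * T y * (T x₀)⁻¹) * (A (p + r))⁻¹ := by group
          _ = A (p + r) * T y * A (p + r) := by rw [hc, hAinv]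
          _ = A (p + r) * (T y * A (p + r) * (T y)⁻¹) * T y := by group
          _ = _ := by rw [h1, hadd]
      have h2 : A k = T (y⁻¹ * y⁻¹) := by
        rw [map_mul]
        nth_rewrite 1 [hk]
        rw [map_inv, mul_inv_cancel_right]
      have h3 : T (y⁻¹ * y⁻¹ * (y⁻¹ * y⁻¹)) = 1 := by
        rw [map_mul, ← h2, hadd, CharTwo.add_self_eq_zero, hA0]
      rw [show y ^ 4 = (y⁻¹ * y⁻¹ * (y⁻¹ * y⁻¹))⁻¹ by group, map_inv, h3, inv_one]
    have hsurj : Function.Surjective fun z : Fˣ => z ^ 4 := by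
      refine Finite.surjective_of_injective fun a b h => Units.ext ?_
      have h' : (a : F) ^ 4 = (b : F) ^ 4 := by simpa using congrArg Units.val h
      have two : (2 : F) = 0 := CharTwo.two_eq_zero
      have h4 : ((a : F) - b) ^ 4 = 0 := by
        linear_combination h' + (-2 * (a : F) ^ 3 * b + 3 * (a : F) ^ 2 * b ^ 2 - 2 * (a : F) * b ^ 3
          + (b : F) ^ 4) * two
      exact sub_eq_zero.mp (pow_eq_zero_iff (by norm_num) |>.mp h4)
    obtain ⟨z, rfl⟩ := hsurj y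
    exact key z
  obtain ⟨y, hy⟩ : ∃ y : Fˣ, y ≠ 1 := by
    haveI : Nontrivial Fˣ := by
      rw [← Finite.one_lt_card_iff_nontrivial, Nat.card_units, Nat.card_eq_fintype_card]; omega
    exact exists_ne 1
  have hμ : (y : F) ^ 2 / θ (y : F) + 1 ≠ 0 := by
    intro h
    have h1 : (y : F) ^ 2 = θ (y : F) := by
      have := (map_ne_zero θ).mpr y.ne_zero
      field_simp at h
      exact CharTwo.add_eq_zero.mp (h.trans (mul_zero _))
    have h2 : ((y : F) ^ 2) ^ 2 = (y : F) ^ 2 * 1 := by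
      rw [mul_one]
      calc ((y : F) ^ 2) ^ 2 = θ (y : F) ^ 2 := by rw [h1]
        _ = θ ((y : F) ^ 2) := (map_pow θ _ _).symm
        _ = θ (θ (y : F)) := by rw [h1]
        _ = (y : F) ^ 2 := hθ _
    have h3 := mul_left_cancel₀ (pow_ne_zero 2 y.ne_zero) ((pow_two ((y : F) ^ 2)).symm.trans h2)
    refine hy (Units.ext ?_)
    rw [Units.val_one]
    exact (CharTwo.sq_injective (R := F)) (by simpa using h3)
  have hA1 : ∀ a, A a = 1 := by
    intro a
    have h1 := hTA y (a / ((y : F) ^ 2 / θ (y : F) + 1))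
    rw [hT, one_mul, inv_one, mul_one] at h1
    have h2 : A (a / ((y : F) ^ 2 / θ (y : F) + 1)) *
        A ((y : F) ^ 2 / θ (y : F) * (a / ((y : F) ^ 2 / θ (y : F) + 1))) = 1 := by
      rw [← h1, hadd, CharTwo.add_self_eq_zero, hA0]
    rw [hadd] at h2
    rwa [show a / ((y : F) ^ 2 / θ (y : F) + 1) +
      (y : F) ^ 2 / θ (y : F) * (a / ((y : F) ^ 2 / θ (y : F) + 1)) = a by
        generalize (y : F) ^ 2 / θ (y : F) = μ at *
        field_simp
        ring] at h2
  have hW1 : W = 1 := by rw [hW, hA1, hA1, hT, one_mul, one_mul]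
  refine eq_top_iff.mpr fun g _ => (QuotientGroup.eq_one_iff g).mp ?_
  change π g = 1
  rcases exists_decomp' hθ he g with ⟨x, a, b, rfl⟩ | ⟨a', b', x, a, b, rfl⟩
  · rw [map_mul, hA, hA1, mul_one]; exact hT x
  · rw [map_mul, map_mul, map_mul, hA, hA, hA1, hA1, one_mul, mul_one]
    exact (congrArg₂ (· * ·) hW1 (hT x)).trans (one_mul 1)

end CfsgLib.Suzuki
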